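import Groth.Agent.ProConsLib.Top
import Mathlib

/-!
# Ind- and pro-constructible subsets of schemes
-/

set_option autoImplicit false
universe u

open Topology TopologicalSpace Set ProCons CategoryTheory AlgebraicGeometry

namespace Groth.Agent.ProConsLib

open Groth.Agent.Spectral

theorem spectralSpace_of_isAffine (X : Scheme.{u}) [IsAffine X] : SpectralSpace X := {}

theorem spectralSpace_opens {X : Scheme.{u}} {U : X.Opens} (hU : IsAffineOpen U) :
    SpectralSpace U.toScheme :=
  haveI : IsAffine U.toScheme := hU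
  spectralSpace_of_isAffine _

variable {X Y : Scheme.{u}}

theorem exists_affine_subset {x : X} {O : Set X} (hO : IsOpen O) (hx : x ∈ O) :
    ∃ U : X.Opens, IsAffineOpen U ∧ x ∈ U ∧ (U : Set X) ⊆ O := by
  obtain ⟨_, ⟨U, hU, rfl⟩, hxU, hUO⟩ := X.isBasis_affineOpens.exists_subset_of_mem_open hx hO
  exact ⟨U, hU, hxU, hUO⟩

theorem isOpen_con_affine {E : Set X} (hE : IsIndConstructible E) {U : X.Opens}
    (hU : IsAffineOpen U) : IsOpen[constructibleTopology U.toScheme] (U.ι ⁻¹' E) :=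
  haveI := spectralSpace_opens hU
  isOpen_con_preimage_of_isInd U.ι.isOpenEmbedding hE

theorem isClosed_con_affine {E : Set X} (hE : IsProConstructible E) {U : X.Opens}
    (hU : IsAffineOpen U) : IsClosed[constructibleTopology U.toScheme] (U.ι ⁻¹' E) :=
  haveI := spectralSpace_opens hU
  isClosed_con_preimage_of_isPro U.ι.isOpenEmbedding hE

theorem isInd_of_affine {E : Set X}
    (H : ∀ x : X, ∃ U : X.Opens, IsAffineOpen U ∧ x ∈ U ∧
      IsOpen[constructibleTopology U.toScheme] (U.ι ⁻¹' E)) : IsIndConstructible E :=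
  isInd_of_forall fun x => by
    obtain ⟨U, hU, hx, ho⟩ := H x
    exact ⟨U.toScheme, inferInstance, spectralSpace_opens hU, U.ι, U.ι.isOpenEmbedding,
      by rw [Scheme.Opens.range_ι]; exact hx, ho⟩

theorem isPro_of_affine {E : Set X}
    (H : ∀ x : X, ∃ U : X.Opens, IsAffineOpen U ∧ x ∈ U ∧
      IsClosed[constructibleTopology U.toScheme] (U.ι ⁻¹' E)) : IsProConstructible E :=
  isPro_iff_compl.2 <| isInd_of_affine fun x => by
    obtain ⟨U, hU, hx, hc⟩ := H x
    exact ⟨U, hU, hx, @IsClosed.isOpen_compl _ (constructibleTopology U.toScheme) _ hc⟩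

theorem isInd_iff {E : Set X} : IsIndConstructible E ↔ ∀ U : X.Opens, IsAffineOpen U →
    IsOpen[constructibleTopology U.toScheme] (U.ι ⁻¹' E) :=
  ⟨fun h _ hU => isOpen_con_affine h hU, fun H => isInd_of_affine fun x => by
    obtain ⟨U, hU, hx, -⟩ := exists_affine_subset isOpen_univ (mem_univ x)
    exact ⟨U, hU, hx, H U hU⟩⟩

theorem isInd_of_isOpen {E : Set X} (hE : IsOpen E) : IsIndConstructible E :=
  isInd_iff.2 fun _ _ => isOpen_con_of_isOpen (hE.preimage (Scheme.Hom.continuous _))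

theorem isInd_sUnion {S : Set (Set X)} (hS : ∀ E ∈ S, IsIndConstructible E) :
    IsIndConstructible (⋃₀ S) :=
  isInd_iff.2 fun U hU => by
    rw [preimage_sUnion]
    exact @isOpen_biUnion _ _ (constructibleTopology U.toScheme) _ _ fun E hE =>
      isOpen_con_affine (hS E hE) hU

theorem isInd_iUnion {ι : Sort*} {E : ι → Set X} (h : ∀ i, IsIndConstructible (E i)) :
    IsIndConstructible (⋃ i, E i) :=
  isInd_sUnion (by rintro _ ⟨i, rfl⟩; exact h i)

theorem isInd_inter {E F : Set X} (hE : IsIndConstructible E) (hF : IsIndConstructible F) :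
    IsIndConstructible (E ∩ F) :=
  isInd_iff.2 fun U hU => by
    rw [preimage_inter]
    exact @IsOpen.inter _ (constructibleTopology U.toScheme) _ _ (isOpen_con_affine hE hU)
      (isOpen_con_affine hF hU)

theorem isLocallyConstructible_iff {E : Set X} :
    IsLocallyConstructible E ↔ IsIndConstructible E ∧ IsProConstructible E := by
  refine ⟨fun h => ⟨isInd_of_isLocallyConstructible h, isPro_of_isLocallyConstructible h⟩,
    fun ⟨hi, hp⟩ x => ?_⟩
  obtain ⟨U, hU, hx, -⟩ := exists_affine_subset isOpen_univ (mem_univ x)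
  haveI := spectralSpace_opens hU
  have : IsConstructible (U.ι ⁻¹' E) :=
    isConstructible_of_isClopen_con ⟨isClosed_con_affine hp hU, isOpen_con_affine hi hU⟩
  exact ⟨U, U.2.mem_nhds hx, U.2, this⟩

/-- A morphism between affine opens, on points. -/
theorem resLE_apply (f : X ⟶ Y) {V : Y.Opens} {U : X.Opens} (e : U ≤ f ⁻¹ᵁ V) (z : U.toScheme) :
    V.ι ((f.resLE V U e) z) = f (U.ι z) := by
  rw [← Scheme.Hom.comp_apply, Scheme.Hom.resLE_comp_ι, Scheme.Hom.comp_apply]

theorem isSpectralMap_resLE (f : X ⟶ Y) {V : Y.Opens} (hV : IsAffineOpen V) {U : X.Opens}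
    (hU : IsAffineOpen U) (e : U ≤ f ⁻¹ᵁ V) : IsSpectralMap (f.resLE V U e) := by
  haveI : IsAffine U.toScheme := hU
  haveI : IsAffine V.toScheme := hV
  exact (f.resLE V U e).isSpectralMap

theorem isInd_preimage (f : X ⟶ Y) {T : Set Y} (hT : IsIndConstructible T) :
    IsIndConstructible (f ⁻¹' T) := by
  refine isInd_of_affine fun x => ?_
  obtain ⟨V, hV, hxV, -⟩ := exists_affine_subset isOpen_univ (mem_univ (f x))
  obtain ⟨U, hU, hxU, hUV⟩ := exists_affine_subset (V.2.preimage f.continuous) (show x ∈ f ⁻¹' V from hxV)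
  refine ⟨U, hU, hxU, ?_⟩
  have he : U.ι ⁻¹' (f ⁻¹' T) = (f.resLE V U hUV) ⁻¹' (V.ι ⁻¹' T) := by
    ext z; simp [resLE_apply f hUV z]
  rw [he]
  exact @IsOpen.preimage _ _ (constructibleTopology U.toScheme) (constructibleTopology V.toScheme) _
    (continuous_con_of_isSpectralMap (isSpectralMap_resLE f hV hU hUV)) _ (isOpen_con_affine hT hV)

theorem isPro_preimage (f : X ⟶ Y) {T : Set Y} (hT : IsProConstructible T) :
    IsProConstructible (f ⁻¹' T) := by
  rw [isPro_iff_compl, ← preimage_compl]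
  exact isInd_preimage f (isPro_iff_compl.1 hT)

theorem isPro_image (f : X ⟶ Y) [QuasiCompact f] {E : Set X} (hE : IsProConstructible E) :
    IsProConstructible (f '' E) := by
  refine isPro_of_affine fun y => ?_
  obtain ⟨V, hV, hyV, -⟩ := exists_affine_subset isOpen_univ (mem_univ y)
  refine ⟨V, hV, hyV, ?_⟩
  haveI := spectralSpace_opens hV
  have hc : IsCompact (f ⁻¹' (V : Set Y)) := f.isCompact_preimage hV.isCompact
  obtain ⟨S, hSf, hS⟩ := (isCompact_and_isOpen_iff_finite_and_eq_biUnion_affineOpens.1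
    ⟨hc, V.2.preimage f.continuous⟩)
  have he : ∀ W ∈ S, (W : X.Opens) ≤ f ⁻¹ᵁ V := fun W hW z hz => by
    show z ∈ f ⁻¹' (V : Set Y)
    rw [hS]; exact mem_biUnion hW hz
  have hI : V.ι ⁻¹' (f '' E) =
      ⋃ W : S, (f.resLE V W.1 (he W W.2)) '' ((W.1 : X.Opens).ι ⁻¹' E) := by
    ext v
    simp only [mem_preimage, mem_image, mem_iUnion]
    constructor
    · rintro ⟨x, hx, hxv⟩
      have : x ∈ f ⁻¹' (V : Set Y) := by
        show f x ∈ V
        rw [hxv]; exact v.2
      rw [hS, mem_iUnion₂] at this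
      obtain ⟨W, hW, hxW⟩ := this
      refine ⟨⟨W, hW⟩, ⟨x, hxW⟩, hx, V.ι.isOpenEmbedding.injective ?_⟩
      rw [resLE_apply]; exact hxv
    · rintro ⟨W, z, hz, rfl⟩
      exact ⟨_, hz, (resLE_apply f _ z).symm⟩
  rw [hI]
  have : Finite S := hSf
  suffices h : ∀ W : S, IsClosed[constructibleTopology V.toScheme]
      ((f.resLE V W.1 (he W W.2)) '' ((W.1 : X.Opens).ι ⁻¹' E)) from
    @isClosed_iUnion_of_finite V.toScheme S (constructibleTopology V.toScheme) _ _ h
  intro W
  haveI := spectralSpace_opens W.1.2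
  exact isClosed_con_range (isSpectralMap_resLE f hV W.1.2 _) (isClosed_con_affine hE W.1.2)

theorem isPro_range (f : X ⟶ Y) [QuasiCompact f] : IsProConstructible (Set.range f) := by
  rw [← image_univ]
  exact isPro_image f (isPro_of_isLocallyConstructible IsLocallyConstructible.univ)

theorem isInd_image (f : X ⟶ Y) [LocallyOfFinitePresentation f] {E : Set X}
    (hE : IsIndConstructible E) : IsIndConstructible (f '' E) := by
  refine isInd_iff.2 fun V hV => ?_
  haveI := spectralSpace_opens hV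
  refine (@isOpen_iff_forall_mem_open _ (constructibleTopology V.toScheme) _).2 fun v hv => ?_
  obtain ⟨x, hx, hxv⟩ := hv
  obtain ⟨U, hU, hxU, hUV⟩ := exists_affine_subset (V.2.preimage f.continuous)
    (show x ∈ f ⁻¹' (V : Set Y) by show f x ∈ V; rw [hxv]; exact v.2)
  haveI := spectralSpace_opens hU
  obtain ⟨T, hT, hxT, hTE⟩ := exists_isConstructible_subset (isOpen_con_affine hE hU)
    (show (⟨x, hxU⟩ : U.toScheme) ∈ U.ι ⁻¹' E from hx)
  haveI : IsAffine U.toScheme := hU
  haveI : IsAffine V.toScheme := hV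
  haveI : LocallyOfFinitePresentation (f.resLE V U hUV) :=
    IsZariskiLocalAtSource.resLE _ inferInstance
  refine ⟨(f.resLE V U hUV) '' T, ?_,
    (isClopen_con_of_isConstructible ((f.resLE V U hUV).isConstructible_image hT)).2, ?_⟩
  · rintro _ ⟨z, hz, rfl⟩
    exact ⟨U.ι z, hTE hz, (resLE_apply f _ z).symm⟩
  · refine ⟨⟨x, hxU⟩, hxT, V.ι.isOpenEmbedding.injective ?_⟩
    rw [resLE_apply]; exact hxv

theorem exists_finset_cover [CompactSpace X] {F : Set X} (hF : IsProConstructible F) {ι : Type*}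
    {E : ι → Set X} (hE : ∀ i, IsIndConstructible (E i)) (h : F ⊆ ⋃ i, E i) :
    ∃ J : Finset ι, F ⊆ ⋃ i ∈ J, E i := by
  classical
  obtain ⟨S, hSf, hS⟩ := (isCompact_and_isOpen_iff_finite_and_eq_biUnion_affineOpens.1
    ⟨isCompact_univ, (isOpen_univ : IsOpen (univ : Set X))⟩)
  have key : ∀ W ∈ S, ∃ J : Finset ι, F ∩ (W : X.Opens) ⊆ ⋃ i ∈ J, E i := fun W _ => by
    haveI := spectralSpace_opens W.2
    have hc := @IsClosed.isCompact _ (constructibleTopology W.1.toScheme) _ compactSpace_con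
      (isClosed_con_affine hF W.2)
    obtain ⟨J, hJ⟩ := @IsCompact.elim_finite_subcover _ (constructibleTopology W.1.toScheme) _ ι hc
      (fun i => W.1.ι ⁻¹' E i) (fun i => isOpen_con_affine (hE i) W.2) (fun z hz => by
        simpa using h hz)
    refine ⟨J, fun x ⟨hxF, hxW⟩ => ?_⟩
    have := hJ (show (⟨x, hxW⟩ : W.1.toScheme) ∈ W.1.ι ⁻¹' F from hxF)
    simp only [mem_iUnion, mem_preimage] at this ⊢
    exact this
  choose! J hJ using key
  refine ⟨hSf.toFinset.biUnion J, fun x hx => ?_⟩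
  have : x ∈ (univ : Set X) := mem_univ x
  rw [hS, mem_iUnion₂] at this
  obtain ⟨W, hW, hxW⟩ := this
  obtain ⟨i, hi, hxi⟩ := mem_iUnion₂.1 (hJ W hW ⟨hx, hxW⟩)
  exact mem_iUnion₂.2 ⟨i, Finset.mem_biUnion.2 ⟨W, hSf.mem_toFinset.2 hW, hi⟩, hxi⟩

theorem mem_interior_iff {E : Set X} (hE : IsIndConstructible E) {x : X} :
    x ∈ interior E ↔ ∀ x' : X, x' ⤳ x → x' ∈ E := by
  refine ⟨fun h x' hx' => interior_subset (hx'.mem_open isOpen_interior h), fun h => ?_⟩
  obtain ⟨U, hU, hxU, -⟩ := exists_affine_subset isOpen_univ (mem_univ x)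
  haveI := spectralSpace_opens hU
  have hcl : IsClosed[constructibleTopology U.toScheme] (U.ι ⁻¹' E)ᶜ :=
    (@isClosed_compl_iff _ (constructibleTopology U.toScheme) _).2 (isOpen_con_affine hE hU)
  have hn : (⟨x, hxU⟩ : U.toScheme) ∉ closure (U.ι ⁻¹' E)ᶜ := fun hm => by
    obtain ⟨e, he, hs⟩ := exists_specializes_of_mem_closure hcl hm
    exact he (h _ (hs.map U.ι.continuous))
  refine mem_interior.2 ⟨U.ι '' (closure (U.ι ⁻¹' E)ᶜ)ᶜ, ?_,
    U.ι.isOpenEmbedding.isOpenMap _ isClosed_closure.isOpen_compl, ⟨⟨x, hxU⟩, hn, rfl⟩⟩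
  rintro _ ⟨z, hz, rfl⟩
  by_contra hzE
  exact hz (subset_closure hzE)

/-- For `X` quasi-separated, the constructible topology is that of ind-constructible sets. -/
theorem isOpen_con_iff [QuasiSeparatedSpace X] {E : Set X} :
    IsOpen[constructibleTopology X] E ↔ IsIndConstructible E := by
  refine ⟨fun h => ?_, fun h => ?_⟩
  · induction h with
    | basic V hV =>
      rcases hV with ⟨ho, _⟩ | ⟨hcl, hc⟩
      · exact isInd_of_isOpen ho
      · refine isInd_of_isLocallyConstructible (isConstructible_compl_iff'.1 ?_)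
        exact (hc.isConstructible hcl.isOpen_compl).isLocallyConstructible
    | univ => exact isInd_of_isOpen isOpen_univ
    | inter _ _ _ _ h1 h2 => exact isInd_inter h1 h2
    | sUnion S _ h => exact isInd_sUnion h
  · refine (@isOpen_iff_forall_mem_open _ (constructibleTopology X) _).2 fun x hx => ?_
    obtain ⟨U, hU, hxU, -⟩ := exists_affine_subset isOpen_univ (mem_univ x)
    obtain ⟨O, hO, hOe⟩ : ∃ O : Set X, IsOpen[constructibleTopology X] O ∧ U.ι ⁻¹' O = U.ι ⁻¹' E :=
      induced_con_le U.ι.isOpenEmbedding _ (isOpen_con_affine h hU)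
    refine ⟨(U : Set X) ∩ O, fun z ⟨hzU, hzO⟩ => ?_, @IsOpen.inter _ (constructibleTopology X) _ _
      (isOpen_con_of_isOpen U.2) hO, hxU, ?_⟩
    · exact (Set.ext_iff.1 hOe ⟨z, hzU⟩).1 hzO
    · exact (Set.ext_iff.1 hOe ⟨x, hxU⟩).2 hx

theorem isClosed_con_iff [QuasiSeparatedSpace X] {E : Set X} :
    IsClosed[constructibleTopology X] E ↔ IsProConstructible E := by
  rw [isPro_iff_compl, ← isOpen_con_iff (E := Eᶜ)]
  exact ⟨fun h => @IsClosed.isOpen_compl X (constructibleTopology X) E h,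
    fun h => @IsClosed.mk X (constructibleTopology X) E h⟩

end Groth.Agent.ProConsLib
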