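import Groth.Agent.ProConsLib.Scheme

/-!
# The constructible topology of a quasi-separated scheme
-/

set_option autoImplicit false
universe u v

open Topology TopologicalSpace Set ProCons CategoryTheory AlgebraicGeometry

namespace Groth.Agent.ProConsLib

open Groth.Agent.Spectral

/-- The tautological homeomorphism. -/
def withTopologyHomeo (X : Type u) [t : TopologicalSpace X] : X ≃ₜ WithTopology X t where
  toEquiv := (WithTopology.equiv X t).symm
  continuous_toFun := WithTopology.continuous_toTopology t
  continuous_invFun := WithTopology.continuous_ofTopology t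

theorem spaces_withTopology (X : Type u) [t : TopologicalSpace X] [T2Space X]
    [WeaklyLocallyCompactSpace X] [TotallySeparatedSpace X] :
    T2Space (WithTopology X t) ∧ LocallyCompactSpace (WithTopology X t) ∧
      TotallyDisconnectedSpace (WithTopology X t) := by
  have h1 : T2Space (WithTopology X t) := (withTopologyHomeo X).t2Space
  haveI : LocallyCompactSpace X := inferInstance
  haveI : TotallyDisconnectedSpace X := inferInstance
  exact ⟨h1, (withTopologyHomeo X).symm.isOpenEmbedding.locallyCompactSpace,
    (withTopologyHomeo X).totallyDisconnectedSpace⟩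

theorem isProper_of_compact_preimage {A : Type u} {B : Type v} [TopologicalSpace A]
    [TopologicalSpace B] [T2Space B] [WeaklyLocallyCompactSpace B] {f : A → B} (hf : Continuous f)
    (h : ∀ K, IsCompact K → IsCompact (f ⁻¹' K)) : IsProperMap f :=
  haveI : LocallyCompactSpace B := inferInstance
  isProperMap_iff_isCompact_preimage.2 ⟨hf, h⟩

variable {X Y : Scheme.{u}}

theorem continuous_con [QuasiSeparatedSpace X] [QuasiSeparatedSpace Y] (f : X ⟶ Y) :
    Continuous[constructibleTopology X, constructibleTopology Y] f :=
  (@continuous_def _ _ (constructibleTopology X) (constructibleTopology Y) _).2 fun _ hs =>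
    isOpen_con_iff.2 (isInd_preimage f (isOpen_con_iff.1 hs))

theorem isCompact_con [QuasiSeparatedSpace X] {U : Set X} (hU : IsOpen U) (hc : IsCompact U) :
    @IsCompact X (constructibleTopology X) U := by
  obtain ⟨S, hSf, hS⟩ := (isCompact_and_isOpen_iff_finite_and_eq_biUnion_affineOpens.1 ⟨hc, hU⟩)
  rw [hS]
  refine @Set.Finite.isCompact_biUnion X _ (constructibleTopology X) _ _ hSf fun W _ => ?_
  haveI := spectralSpace_opens W.2
  have := @IsCompact.image W.1.toScheme X (constructibleTopology W.1.toScheme)
    (constructibleTopology X) univ W.1.ι
    (@isCompact_univ _ (constructibleTopology W.1.toScheme) compactSpace_con) (continuous_con W.1.ι)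
  rwa [image_univ, Scheme.Opens.range_ι] at this

theorem weaklyLocallyCompact_con [QuasiSeparatedSpace X] :
    @WeaklyLocallyCompactSpace X (constructibleTopology X) :=
  @WeaklyLocallyCompactSpace.mk X (constructibleTopology X) fun x => by
    obtain ⟨U, hU, hxU, -⟩ := exists_affine_subset isOpen_univ (mem_univ x)
    exact ⟨U, isCompact_con U.2 hU.isCompact,
      @IsOpen.mem_nhds X (constructibleTopology X) _ _ (isOpen_con_of_isOpen U.2) hxU⟩

theorem isProperMap_con [QuasiSeparatedSpace X] [QuasiSeparatedSpace Y] (f : X ⟶ Y)
    [QuasiCompact f] :
    @IsProperMap X Y (constructibleTopology X) (constructibleTopology Y) f := by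
  refine @isProper_of_compact_preimage X Y (constructibleTopology X) (constructibleTopology Y)
    t2_con weaklyLocallyCompact_con f (continuous_con f) fun K hK => ?_
  have hK' : IsCompact K := by
    simpa using @IsCompact.image Y Y (constructibleTopology Y) _ K id hK
      (continuous_id_of_le con_le)
  obtain ⟨V, hVc, hVo, hKV, -⟩ := PrespectralSpace.exists_isCompact_and_isOpen_between hK'
    isOpen_univ (subset_univ K)
  exact @IsCompact.of_isClosed_subset X (constructibleTopology X) _ _
    (isCompact_con (hVo.preimage f.continuous) (QuasiCompact.isCompact_preimage V hVo hVc))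
    (@IsClosed.preimage X Y (constructibleTopology X) (constructibleTopology Y) f (continuous_con f) K
      (@IsCompact.isClosed Y (constructibleTopology Y) t2_con _ hK))
    (preimage_mono hKV)

end Groth.Agent.ProConsLib
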