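import Groth.Agent.ProConsLib.Scheme

/-!
# Pro-constructible sets as images
-/

set_option autoImplicit false
universe u

open Topology TopologicalSpace Set ProCons CategoryTheory AlgebraicGeometry PrimeSpectrum

namespace Groth.Agent.ProConsLib

open Groth.Agent.Spectral

variable {A : Type u} [CommRing A]

/-- A constructibly closed subset of a spectrum is the range of a spectrum. -/
theorem exists_range_comap_eq {E : Set (PrimeSpectrum A)}
    (hE : IsClosed[constructibleTopology (PrimeSpectrum A)] E) :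
    ∃ (B : Type u) (_ : CommRing B) (f : A →+* B), Set.range (PrimeSpectrum.comap f) = E := by
  classical
  refine ⟨Π p : E, p.1.asIdeal.ResidueField, inferInstance,
    Pi.ringHom fun p => algebraMap A p.1.asIdeal.ResidueField, subset_antisymm ?_ ?_⟩
  · rintro _ ⟨q, rfl⟩
    by_contra hn
    obtain ⟨T, hT, hqT, hTE⟩ := exists_isConstructible_subset
      (@IsClosed.isOpen_compl _ (constructibleTopology (PrimeSpectrum A)) _ hE) hn
    obtain ⟨S, rfl⟩ := exists_constructibleSetData_iff.2 hT
    obtain ⟨C, hC, hqC⟩ := mem_iUnion₂.1 hqT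
    set φ : A →+* (Π p : E, p.1.asIdeal.ResidueField) :=
      Pi.ringHom fun p => algebraMap A p.1.asIdeal.ResidueField with hφ
    obtain ⟨hg, hf⟩ := hqC
    have hf' : φ C.f ∉ q.asIdeal := fun h => hf (by simpa [mem_zeroLocus] using h)
    have hg' : ∀ i, φ (C.g i) ∈ q.asIdeal := fun i => by
      have : C.g i ∈ (PrimeSpectrum.comap φ q).asIdeal := hg ⟨i, rfl⟩
      simpa using this
    let e : Fin C.n → (Π p : E, p.1.asIdeal.ResidueField) := fun i =>
      φ (C.g i) * fun p => (φ (C.g i) p)⁻¹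
    have he : ∀ i, 1 - e i ∉ q.asIdeal := fun i h => q.isPrime.ne_top <| q.asIdeal.eq_top_iff_one.2 <| by
      simpa [e] using q.asIdeal.add_mem h (q.asIdeal.mul_mem_right (fun p => (φ (C.g i) p)⁻¹) (hg' i))
    have h0 : φ C.f * ∏ i, (1 - e i) = 0 := by
      funext p
      have hp : p.1 ∉ C.toSet := fun h => hTE (mem_iUnion₂.2 ⟨C, hC, h⟩) p.2
      simp only [BasicConstructibleSetData.toSet, mem_sdiff, mem_zeroLocus, Set.range_subset_iff,
        Set.singleton_subset_iff, SetLike.mem_coe, not_and, not_not] at hp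
      rw [Pi.mul_apply, Finset.prod_apply, Pi.zero_apply, mul_eq_zero]
      by_cases h : ∀ i, C.g i ∈ p.1.asIdeal
      · exact .inl (Ideal.algebraMap_residueField_eq_zero.2 (hp h))
      · obtain ⟨i, hi⟩ := not_forall.1 h
        refine .inr (Finset.prod_eq_zero (Finset.mem_univ i) ?_)
        have : φ (C.g i) p ≠ 0 := fun h0 => hi (Ideal.algebraMap_residueField_eq_zero.1 h0)
        simp [e, mul_inv_cancel₀ this]
    rcases q.isPrime.mem_or_mem (h0 ▸ q.asIdeal.zero_mem : φ C.f * ∏ i, (1 - e i) ∈ q.asIdeal) with h | h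
    · exact hf' h
    · obtain ⟨i, -, hi⟩ := Ideal.IsPrime.prod_mem_iff.1 h
      exact he i hi
  · intro p hp
    refine ⟨⟨RingHom.ker (Pi.evalRingHom (fun p : E => p.1.asIdeal.ResidueField) ⟨p, hp⟩),
      RingHom.ker_isPrime _⟩, PrimeSpectrum.ext ?_⟩
    ext a
    show algebraMap A p.asIdeal.ResidueField a = 0 ↔ a ∈ p.asIdeal
    exact Ideal.algebraMap_residueField_eq_zero

theorem isClosed_con_range_comap {B : Type u} [CommRing B] (f : A →+* B) :
    IsClosed[constructibleTopology (PrimeSpectrum A)] (Set.range (PrimeSpectrum.comap f)) := by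
  rw [← image_univ]
  have h : IsSpectralMap (PrimeSpectrum.comap f) := (Spec.map (CommRingCat.ofHom f)).isSpectralMap
  exact isClosed_con_range h
    (@isClosed_univ _ (constructibleTopology (PrimeSpectrum B)))

theorem exists_sInter_of_isClosed_con {W : Type*} [TopologicalSpace W] [CompactSpace W]
    [QuasiSeparatedSpace W] {E : Set W} (hE : IsClosed[constructibleTopology W] E) :
    ∃ S : Set (Set W), (∀ s ∈ S, IsConstructible s) ∧ E = ⋂₀ S := by
  refine ⟨{s | IsConstructible s ∧ E ⊆ s}, fun s hs => hs.1,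
    subset_antisymm (subset_sInter fun s hs => hs.2) fun w hw => by_contra fun hn => ?_⟩
  obtain ⟨T, hT, hwT, hTE⟩ := exists_isConstructible_subset
    (@IsClosed.isOpen_compl _ (constructibleTopology W) _ hE) hn
  exact hw Tᶜ ⟨hT.compl, fun z hz hzT => hTE hzT hz⟩ hwT

theorem isClosed_con_sInter {W : Type*} [TopologicalSpace W] [CompactSpace W]
    {S : Set (Set W)} (hS : ∀ s ∈ S, IsConstructible s) :
    IsClosed[constructibleTopology W] (⋂₀ S) :=
  @isClosed_sInter W (constructibleTopology W) _ fun s hs =>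
    (isClopen_con_of_isConstructible (hS s hs)).1

variable {X : Scheme.{u}}

theorem range_sigmaDesc {ι : Type u} {Y : ι → Scheme.{u}} (g : ∀ i, Y i ⟶ X) :
    Set.range (Limits.Sigma.desc g) = ⋃ i, Set.range (g i) := by
  ext x
  simp [(sigmaMk Y).symm.exists_congr_left, Sigma.exists, ← Scheme.Hom.comp_apply]

theorem exists_affine_range [CompactSpace X] {E : Set X} (hE : IsProConstructible E) :
    ∃ (X' : Scheme.{u}) (f : X' ⟶ X), IsAffine X' ∧ Set.range f = E := by
  obtain ⟨S, hSf, hS⟩ := (isCompact_and_isOpen_iff_finite_and_eq_biUnion_affineOpens.1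
    ⟨isCompact_univ, (isOpen_univ : IsOpen (univ : Set X))⟩)
  have : Finite S := hSf
  choose B _ φ hφ using fun W : S => exists_range_comap_eq (A := Γ(X, W.1.1))
    (E := W.1.2.fromSpec ⁻¹' E)
    (haveI : SpectralSpace (Spec Γ(X, W.1.1)) := spectralSpace_of_isAffine _
     isClosed_con_preimage_of_isPro W.1.2.fromSpec.isOpenEmbedding hE)
  refine ⟨∐ fun W : S => Spec (CommRingCat.of (B W)),
    Limits.Sigma.desc fun W => Spec.map (CommRingCat.ofHom (φ W)) ≫ W.1.2.fromSpec,
    inferInstance, ?_⟩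
  rw [range_sigmaDesc]
  have key : ∀ W : S, Set.range (Spec.map (CommRingCat.ofHom (φ W)) ≫ W.1.2.fromSpec) =
      E ∩ (W.1 : X.Opens) := fun W => by
    rw [← W.1.2.range_fromSpec, ← image_preimage_eq_inter_range]
    erw [← hφ W, ← range_comp]
    rfl
  simp_rw [key, ← inter_iUnion]
  rw [inter_eq_left]
  intro x _
  obtain ⟨W, hW, hxW⟩ := mem_iUnion₂.1 (hS ▸ mem_univ x : x ∈ ⋃ i ∈ S, ((i : X.Opens) : Set X))
  exact mem_iUnion.2 ⟨⟨W, hW⟩, hxW⟩

end Groth.Agent.ProConsLib
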