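import Groth.Agent.Spectral.Basic
import Groth.Prelude.Def_ProCons

/-!
# Ind- and pro-constructible sets, topological part
-/

set_option autoImplicit false
universe u v

open Topology TopologicalSpace Set ProCons

namespace Groth.Agent.ProConsLib

open Groth.Agent.Spectral

variable {X : Type u} [TopologicalSpace X] {W : Type v} [TopologicalSpace W]

theorem isConstructible_compl_iff' {s : Set X} :
    IsLocallyConstructible sᶜ ↔ IsLocallyConstructible s := by
  simp [IsLocallyConstructible]

theorem isPro_iff_compl {E : Set X} : IsProConstructible E ↔ IsIndConstructible Eᶜ := by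
  refine ⟨fun h x => ?_, fun h x => ?_⟩
  · obtain ⟨U, hU, hx, S, hS, he⟩ := h x
    refine ⟨U, hU, hx, compl '' S, ?_, ?_⟩
    · rintro _ ⟨T, hT, rfl⟩
      exact isConstructible_compl_iff'.2 (hS T hT)
    · rw [preimage_compl, he, compl_sInter]
  · obtain ⟨U, hU, hx, S, hS, he⟩ := h x
    refine ⟨U, hU, hx, compl '' S, ?_, ?_⟩
    · rintro _ ⟨T, hT, rfl⟩
      exact isConstructible_compl_iff'.2 (hS T hT)
    · rw [← compl_inj_iff, ← preimage_compl, he, compl_sInter, compl_compl_image]

theorem isInd_iff_compl {E : Set X} : IsIndConstructible E ↔ IsProConstructible Eᶜ := by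
  rw [isPro_iff_compl, compl_compl]

theorem isInd_of_isLocallyConstructible {E : Set X} (hE : IsLocallyConstructible E) :
    IsIndConstructible E :=
  fun x => ⟨univ, isOpen_univ, mem_univ x, {Subtype.val ⁻¹' E}, fun _ hT => hT ▸
    hE.preimage_of_isOpenEmbedding isOpen_univ.isOpenEmbedding_subtypeVal, (sUnion_singleton _).symm⟩

theorem isPro_of_isLocallyConstructible {E : Set X} (hE : IsLocallyConstructible E) :
    IsProConstructible E :=
  isPro_iff_compl.2 (isInd_of_isLocallyConstructible (isConstructible_compl_iff'.2 hE))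

/-- An open set of the constructible topology contains a constructible nhbd of each of its points. -/
theorem exists_isConstructible_subset [CompactSpace W] [QuasiSeparatedSpace W] {s : Set W}
    (hs : IsOpen[constructibleTopology W] s) {w : W} (hw : w ∈ s) :
    ∃ T : Set W, IsConstructible T ∧ w ∈ T ∧ T ⊆ s := by
  have hb := @TopologicalSpace.isTopologicalBasis_of_subbasis W (constructibleTopology W)
    (constructibleTopologySubbasis W) rfl
  obtain ⟨T, ⟨f, ⟨hf, hfs⟩, rfl⟩, hwT, hTs⟩ :=
    @IsTopologicalBasis.exists_subset_of_mem_open W (constructibleTopology W) _ hb _ _ hw hs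
  refine ⟨_, IsConstructible.sInter hf fun t ht => ?_, hwT, hTs⟩
  rcases hfs ht with ⟨ho, hc⟩ | ⟨hcl, hc⟩
  · exact hc.isConstructible ho
  · simpa using (hc.isConstructible hcl.isOpen_compl).compl

theorem isOpen_con_preimage_of_isInd [SpectralSpace W] {g : W → X} (hg : IsOpenEmbedding g)
    {E : Set X} (hE : IsIndConstructible E) : IsOpen[constructibleTopology W] (g ⁻¹' E) := by
  refine (@isOpen_iff_forall_mem_open W (constructibleTopology W) _).2 fun w hw => ?_
  obtain ⟨V, hV, hwV, S, hS, he⟩ := hE (g w)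
  have hw' : (⟨g w, hwV⟩ : V) ∈ ⋃₀ S := he ▸ hw
  obtain ⟨T, hT, hwT⟩ := hw'
  obtain ⟨W', ⟨hWo, hWc⟩, hwW', hW'V⟩ := (PrespectralSpace.isTopologicalBasis (X := W)).exists_subset_of_mem_open
    (show w ∈ g ⁻¹' V from hwV) (hV.preimage hg.continuous)
  have : CompactSpace W' := isCompact_iff_compactSpace.1 hWc
  have : SpectralSpace W' := hWo.isOpenEmbedding_subtypeVal.spectralSpace
  let h : W' → V := fun z => ⟨g z.1, hW'V z.2⟩
  have hh : IsOpenEmbedding h :=
    IsOpenEmbedding.of_comp (g := (Subtype.val : V → X)) h hV.isOpenEmbedding_subtypeVal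
      (hg.comp hWo.isOpenEmbedding_subtypeVal)
  have hc : IsConstructible (h ⁻¹' T) := ((hS T hT).preimage_of_isOpenEmbedding hh).isConstructible
  have hc' : IsConstructible (Subtype.val '' (h ⁻¹' T) : Set W) :=
    hc.image_of_isOpenEmbedding hWo.isOpenEmbedding_subtypeVal
      (by rw [Subtype.range_coe]; exact fun V hVc hVo => hWc.inter_of_isOpen hVc hWo hVo)
  refine ⟨_, ?_, (isClopen_con_of_isConstructible hc').2, ⟨⟨w, hwW'⟩, hwT, rfl⟩⟩
  rintro _ ⟨z, hz, rfl⟩
  have : h z ∈ Subtype.val ⁻¹' E := he ▸ (subset_sUnion_of_mem hT hz)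
  exact this

theorem isClosed_con_preimage_of_isPro [SpectralSpace W] {g : W → X} (hg : IsOpenEmbedding g)
    {E : Set X} (hE : IsProConstructible E) : IsClosed[constructibleTopology W] (g ⁻¹' E) :=
  @IsClosed.mk _ (constructibleTopology W) _
    (isOpen_con_preimage_of_isInd hg (isPro_iff_compl.1 hE))

theorem isInd_of_forall {E : Set X}
    (H : ∀ x : X, ∃ (W : Type u) (_ : TopologicalSpace W) (_ : SpectralSpace W) (g : W → X),
      IsOpenEmbedding g ∧ x ∈ range g ∧ IsOpen[constructibleTopology W] (g ⁻¹' E)) :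
    IsIndConstructible E := by
  intro x
  obtain ⟨W, _, _, g, hg, hx, ho⟩ := H x
  refine ⟨range g, hg.isOpen_range, hx, {T | IsLocallyConstructible T ∧ T ⊆ Subtype.val ⁻¹' E},
    fun T hT => hT.1, subset_antisymm ?_ (sUnion_subset fun T hT => hT.2)⟩
  rintro ⟨_, w, rfl⟩ hw
  obtain ⟨T, hT, hwT, hTs⟩ := exists_isConstructible_subset ho (show w ∈ g ⁻¹' E from hw)
  refine ⟨hg.toIsEmbedding.toHomeomorph.symm ⁻¹' T, ⟨hT.isLocallyConstructible.preimage_of_isOpenEmbedding
    (Homeomorph.isOpenEmbedding _), ?_⟩, ?_⟩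
  · intro z hz
    have h1 : g (hg.toIsEmbedding.toHomeomorph.symm z) ∈ E := hTs hz
    have h2 := congrArg Subtype.val (hg.toIsEmbedding.toHomeomorph.apply_symm_apply z)
    simp only [IsEmbedding.toHomeomorph_apply_coe] at h2
    rwa [h2] at h1
  · show hg.toIsEmbedding.toHomeomorph.symm ⟨g w, _⟩ ∈ T
    convert hwT
    exact hg.toIsEmbedding.toHomeomorph.symm_apply_eq.2 (Subtype.ext rfl)

/-- The constructible topology of a compact open subspace is coarser than the induced one. -/
theorem induced_con_le {g : W → X} (hg : IsOpenEmbedding g) :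
    TopologicalSpace.induced g (constructibleTopology X) ≤ constructibleTopology W := by
  refine le_generateFrom fun V hV => ?_
  rcases hV with ⟨ho, hc⟩ | ⟨hcl, hc⟩
  · exact ⟨g '' V, (hc.image hg.continuous).isOpen_constructibleTopology_of_isOpen (hg.isOpenMap V ho),
      preimage_image_eq V hg.injective⟩
  · refine ⟨(g '' Vᶜ)ᶜ, IsCompact.isOpen_constructibleTopology_of_isClosed
      (by rw [compl_compl]; exact hc.image hg.continuous)
      (hg.isOpenMap _ hcl.isOpen_compl).isClosed_compl, ?_⟩
    rw [preimage_compl, preimage_image_eq _ hg.injective, compl_compl]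

end Groth.Agent.ProConsLib
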